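import Mathlib
import Cfsg.Agent.Lib.Helper50.FOT.Defs

/-!
# FOT [SOLV]: a Frobenius group is solvable iff its complement is
-/

set_option autoImplicit false

namespace Cfsg.Agent.Lib.Helper45.FOT

open Cfsg.Agent.Lib.Helper50.FOT

universe u

/-- **[SOLV]** a Frobenius group is solvable iff its complement is. -/
theorem pkgSolv : PkgSolv.{u} := by
  intro X _ _ K C hFD
  constructor
  · intro h
    exact inferInstance
  · intro hC
    have hKn : K.Normal := hFD.normal
    have hnil : Group.IsNilpotent K := hFD.nilp
    have hKs : Group.IsSolvable K := inferInstance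
    have hsurj : Function.Surjective ((QuotientGroup.mk' K).comp C.subtype) := by
      intro y
      obtain ⟨x, rfl⟩ := QuotientGroup.mk'_surjective K y
      obtain ⟨⟨k, c⟩, hkc⟩ := hFD.compl.2 x
      refine ⟨c, ?_⟩
      have hkc' : (k : X) * (c : X) = x := hkc
      rw [← hkc']
      show (QuotientGroup.mk' K) (c : X) = (QuotientGroup.mk' K) ((k : X) * (c : X))
      rw [map_mul]
      have h1 : (QuotientGroup.mk' K) (k : X) = 1 := by
        rw [QuotientGroup.mk'_apply, QuotientGroup.eq_one_iff]; exact k.2
      rw [h1, one_mul]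
    have hQs : Group.IsSolvable (X ⧸ K) := Group.isSolvable_of_surjective hsurj
    refine Group.isSolvable_of_ker_le_range K.subtype (QuotientGroup.mk' K) ?_
    rw [QuotientGroup.ker_mk', Subgroup.range_subtype]

end Cfsg.Agent.Lib.Helper45.FOT
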