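import Mathlib
import Cfsg.Agent.Lib.Helper50.FOT.Defs

/-!
# FOT [SYL6]: a finite solvable group never has exactly six Sylow 5-subgroups

Minimal counterexample `H`, `A` a nontrivial normal `q`-subgroup.  The Sylow 5-subgroups of `H`
map onto those of `H ⧸ A`, so `n₅(H ⧸ A) ≤ 6`, `≡ 1 mod 5` and `≠ 6` (induction): it is `1`.
Hence `P A` is normal (`P` a Sylow 5-subgroup), Frattini gives `N_H(P) A = H`, and
`6 = [H : N_H(P)]` divides `|A|`, a power of `q`.
-/

set_option autoImplicit false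

namespace Cfsg.Agent.Lib.Helper45.FOT

open Cfsg.Agent.Lib.Helper50.FOT

universe u

/-- a nontrivial finite solvable group has a nontrivial normal `q`-subgroup -/
theorem syl6_nqs (H : Type u) [Group H] [Finite H] [Nontrivial H] (hs : Group.IsSolvable H) :
    ∃ (q : ℕ) (A : Subgroup H), q.Prime ∧ A.Normal ∧ A ≠ ⊥ ∧ IsPGroup q A := by
  classical
  have hex : ∃ n, derivedSeries H n = ⊥ := hs.solvable
  obtain ⟨m, hm, hmin⟩ : ∃ m, derivedSeries H m = ⊥ ∧ ∀ k < m, derivedSeries H k ≠ ⊥ :=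
    ⟨Nat.find hex, Nat.find_spec hex, fun k hk => Nat.find_min hex hk⟩
  have hm0 : m ≠ 0 := by
    rintro rfl
    rw [derivedSeries_zero] at hm
    exact top_ne_bot hm
  obtain ⟨k, rfl⟩ := Nat.exists_eq_succ_of_ne_zero hm0
  obtain ⟨D, hD⟩ : ∃ D, D = derivedSeries H k := ⟨_, rfl⟩
  have hDn : D.Normal := hD ▸ derivedSeries_normal H k
  have hDne : D ≠ ⊥ := hD ▸ hmin k (Nat.lt_succ_self k)
  have hDab : ∀ x ∈ D, ∀ y ∈ D, x * y = y * x := by
    intro x hx y hy
    have hc : D ≤ Subgroup.centralizer (D : Set H) :=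
      Subgroup.commutator_eq_bot_iff_le_centralizer.mp (by rw [hD, ← derivedSeries_succ]; exact hm)
    exact Subgroup.mem_centralizer_iff.mp (hc hy) x hx
  have hDcard : Nat.card D ≠ 1 := by
    have := (Subgroup.one_lt_card_iff_ne_bot D).mpr hDne
    omega
  obtain ⟨q, hq, hqd⟩ := Nat.exists_prime_and_dvd hDcard
  have : Fact q.Prime := ⟨hq⟩
  obtain ⟨x, hx⟩ := exists_prime_orderOf_dvd_card' q hqd
  let A : Subgroup H :=
    { carrier := {a | a ∈ D ∧ a ^ q = 1}
      mul_mem' := fun {a b} ha hb => ⟨D.mul_mem ha.1 hb.1, by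
        rw [(show Commute a b from hDab a ha.1 b hb.1).mul_pow, ha.2, hb.2, one_mul]⟩
      one_mem' := ⟨D.one_mem, one_pow q⟩
      inv_mem' := fun {a} ha => ⟨D.inv_mem ha.1, by rw [inv_pow, ha.2, inv_one]⟩ }
  refine ⟨q, A, hq, ⟨fun a ha g => ⟨hDn.conj_mem a ha.1 g, by
    rw [conj_pow, ha.2, mul_one, mul_inv_cancel]⟩⟩, ?_, ?_⟩
  · intro hA
    have hxq : x ^ q = 1 := by rw [← hx]; exact pow_orderOf_eq_one x
    have hxA : (x : H) ∈ A := ⟨x.2, by
      have h1 := congrArg Subtype.val hxq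
      simpa using h1⟩
    rw [hA, Subgroup.mem_bot] at hxA
    have hx1 : x = 1 := Subtype.ext hxA
    rw [hx1, orderOf_one] at hx
    exact hq.one_lt.ne hx
  · intro a
    refine ⟨1, ?_⟩
    rw [pow_one]
    exact Subtype.ext a.2.2

theorem syl6_aux : ∀ n : ℕ, ∀ (H : Type u) [Group H] [Finite H], Nat.card H = n →
    Group.IsSolvable H → Nat.card (Sylow 5 H) ≠ 6 := by
  intro n
  induction n using Nat.strong_induction_on with
  | _ n ih =>
    intro H _ _ hn hs h6
    have : Fact (Nat.Prime 5) := ⟨by norm_num⟩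
    have hnt : Nontrivial H := by
      by_contra hnt
      rw [not_nontrivial_iff_subsingleton] at hnt
      have hsub : Subsingleton (Sylow 5 H) :=
        ⟨fun P Q => Sylow.ext (Subsingleton.elim _ _)⟩
      have := Finite.card_le_one_iff_subsingleton.mpr hsub
      omega
    obtain ⟨q, A, hq, hAn, hAne, hAq⟩ := syl6_nqs H hs
    have hQs : Group.IsSolvable (H ⧸ A) :=
      Group.isSolvable_of_surjective (QuotientGroup.mk'_surjective A)
    have hcard : A.index * Nat.card A = Nat.card H := A.index_mul_card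
    have hA1 : 1 < Nat.card A := (Subgroup.one_lt_card_iff_ne_bot A).mpr hAne
    have hipos : 0 < A.index := Nat.pos_of_ne_zero Subgroup.index_ne_zero_of_finite
    have hlt : Nat.card (H ⧸ A) < n := by
      rw [← hn, ← hcard, ← Subgroup.index_eq_card]
      nlinarith
    have hih := ih _ hlt (H ⧸ A) rfl hQs
    have hsurj := Sylow.mapSurjective_surjective (QuotientGroup.mk'_surjective A) 5
    have hle : Nat.card (Sylow 5 (H ⧸ A)) ≤ 6 := by
      rw [← h6]; exact Nat.card_le_card_of_surjective _ hsurj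
    have hmod : Nat.card (Sylow 5 (H ⧸ A)) ≡ 1 [MOD 5] := card_sylow_modEq_one 5 (H ⧸ A)
    have h1 : Nat.card (Sylow 5 (H ⧸ A)) = 1 := by
      unfold Nat.ModEq at hmod; omega
    have hsub : Subsingleton (Sylow 5 (H ⧸ A)) := (Nat.card_eq_one_iff_unique.mp h1).1
    obtain ⟨P⟩ : Nonempty (Sylow 5 H) := Sylow.nonempty
    have hSn : ((P : Subgroup H).map (QuotientGroup.mk' A)).Normal :=
      Sylow.normal_of_subsingleton (P.mapSurjective (QuotientGroup.mk'_surjective A))
    obtain ⟨L, hL⟩ : ∃ L, L = ((P : Subgroup H).map (QuotientGroup.mk' A)).comap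
        (QuotientGroup.mk' A) := ⟨_, rfl⟩
    have hLn : L.Normal := hL ▸ hSn.comap _
    have hLeq : L = (P : Subgroup H) ⊔ A := by
      rw [hL, Subgroup.comap_map_eq, QuotientGroup.ker_mk']
    have hPL : (P : Subgroup H) ≤ L := hLeq ▸ le_sup_left
    have hfr : Subgroup.normalizer ((P : Subgroup H) : Set H) ⊔ L = ⊤ :=
      Sylow.normalizer_sup_eq_top' P hPL
    obtain ⟨N, hN⟩ : ∃ N, N = Subgroup.normalizer ((P : Subgroup H) : Set H) := ⟨_, rfl⟩
    have hPN : (P : Subgroup H) ≤ N := hN ▸ Subgroup.le_normalizer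
    have hNA : N ⊔ A = ⊤ := by
      rw [← hN, hLeq, ← sup_assoc, sup_eq_left.mpr hPN] at hfr
      exact hfr
    have hidx : N.index = 6 := by
      rw [hN]; exact (Sylow.card_eq_index_normalizer P).symm.trans h6
    have hdvd : N.index ∣ Nat.card A := by
      have e1 : A.relIndex (N ⊔ A) = A.relIndex N := Subgroup.relIndex_sup_right N A
      rw [hNA, Subgroup.relIndex_top_right] at e1
      have e2 : N.index * Nat.card N = Nat.card H := N.index_mul_card
      have e4 : (A.subgroupOf N).index * Nat.card (A.subgroupOf N) = Nat.card N :=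
        (A.subgroupOf N).index_mul_card
      have e5 : A.index = (A.subgroupOf N).index := e1
      refine ⟨Nat.card (A.subgroupOf N), ?_⟩
      have e6 : A.index * Nat.card A = A.index * (N.index * Nat.card (A.subgroupOf N)) := by
        rw [hcard, ← e2, ← e4, e5]; ring
      exact Nat.eq_of_mul_eq_mul_left hipos e6
    have hqf : Fact q.Prime := ⟨hq⟩
    obtain ⟨a, ha⟩ := IsPGroup.iff_card.mp hAq
    rw [hidx, ha] at hdvd
    have h2 : 2 ∣ q ^ a := Dvd.dvd.trans (by norm_num) hdvd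
    have h3 : 3 ∣ q ^ a := Dvd.dvd.trans (by norm_num) hdvd
    have hq2 := (Nat.prime_dvd_prime_iff_eq Nat.prime_two hq).mp (Nat.prime_two.dvd_of_dvd_pow h2)
    have hq3 := (Nat.prime_dvd_prime_iff_eq Nat.prime_three hq).mp
      (Nat.prime_three.dvd_of_dvd_pow h3)
    omega

/-- **[SYL6]** a finite solvable group never has exactly six Sylow 5-subgroups. -/
theorem pkgSyl6 : PkgSyl6.{u} := fun H _ _ hs => syl6_aux _ H rfl hs

end Cfsg.Agent.Lib.Helper45.FOT
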